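import Cfsg.Agent.H854.Ore.Ext

/-!
# The coset lemma for `2^11 . M24` (helper265, for S2491, S2492)

`cover` : `s`, `y` in `N`, a word in `s`, `y` of order 23 modulo `A`, `h` over `[s, y]`: then `h = [s x, y t]` with
`x`, `t` in `A`.
-/

set_option autoImplicit false

open Cfsg Subgroup

namespace Cfsg.Agent.H265.TF.Coset

open Cfsg.Agent.H854.Ore Cfsg.Agent.H777.Ore

variable {G : Type*} [Group G] [Finite G] {A N : Subgroup G} {π : N →* M24}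

theorem sqi (H : MExt A N π) {x : G} (hx : x ∈ A) : x⁻¹ = x := inv_eq_of_mul_eq_one_left (H.sq x hx)

/-- the products of commutators -/
def R (H : MExt A N π) (s y : N) : Subgroup G where
  carrier := {v | v ∈ A ∧ ∃ x ∈ A, ∃ t ∈ A, v = x * (y * x⁻¹ * (y : G)⁻¹) * (y * t * (y : G)⁻¹) * (y * (s : G)⁻¹ * t⁻¹ * s * (y : G)⁻¹)}
  one_mem' := ⟨A.one_mem, 1, A.one_mem, 1, A.one_mem, by group⟩
  mul_mem' := by
    rintro v v' ⟨hv, x, hx, t, ht, rfl⟩ ⟨hv', x', hx', t', ht', rfl⟩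
    refine ⟨A.mul_mem hv hv', x * x', A.mul_mem hx hx', t * t', A.mul_mem ht ht', ?_⟩
    have a1 : ∀ u ∈ A, (y : G) * u * (y : G)⁻¹ ∈ A := fun u hu => H.nconj y hu
    have a2 : ∀ u ∈ A, (y : G) * (s : G)⁻¹ * u * s * (y : G)⁻¹ ∈ A := fun u hu => by
      have h1 := H.nconj (y * s⁻¹) hu
      push_cast at h1
      rwa [show (y : G) * (s : G)⁻¹ * u * ((y : G) * (s : G)⁻¹)⁻¹ = (y : G) * (s : G)⁻¹ * u * s * (y : G)⁻¹ by group] at h1
    have e1 : (y : G) * (x * x')⁻¹ * (y : G)⁻¹ = ((y : G) * x⁻¹ * (y : G)⁻¹) * (y * x'⁻¹ * (y : G)⁻¹) := by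
      rw [mul_inv_rev, H.comm (A.inv_mem hx') (A.inv_mem hx)]; group
    have e2 : (y : G) * (s : G)⁻¹ * (t * t')⁻¹ * s * (y : G)⁻¹ =
        ((y : G) * (s : G)⁻¹ * t⁻¹ * s * (y : G)⁻¹) * (y * (s : G)⁻¹ * t'⁻¹ * s * (y : G)⁻¹) := by
      rw [mul_inv_rev, H.comm (A.inv_mem ht') (A.inv_mem ht)]; group
    have e3 : (y : G) * (t * t') * (y : G)⁻¹ = (y * t * (y : G)⁻¹) * (y * t' * (y : G)⁻¹) := by group
    rw [e1, e2, e3]
    have m1 := a1 _ (A.inv_mem hx)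
    have m1' := a1 _ (A.inv_mem hx')
    have m2 := a1 _ ht
    have m2' := a1 _ ht'
    have m3 := a2 _ (A.inv_mem ht)
    have m3' := a2 _ (A.inv_mem ht')
    generalize (y : G) * x⁻¹ * (y : G)⁻¹ = p1 at m1 ⊢
    generalize (y : G) * x'⁻¹ * (y : G)⁻¹ = p1' at m1' ⊢
    generalize (y : G) * t * (y : G)⁻¹ = p2 at m2 ⊢
    generalize (y : G) * t' * (y : G)⁻¹ = p2' at m2' ⊢
    generalize (y : G) * (s : G)⁻¹ * t⁻¹ * s * (y : G)⁻¹ = p3 at m3 ⊢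
    generalize (y : G) * (s : G)⁻¹ * t'⁻¹ * s * (y : G)⁻¹ = p3' at m3' ⊢
    have c := fun {a b : G} (ha : a ∈ A) (hb : b ∈ A) => H.comm ha hb
    calc x * p1 * p2 * p3 * (x' * p1' * p2' * p3') = x * p1 * p2 * (p3 * x') * p1' * p2' * p3' := by group
      _ = x * p1 * (p2 * x') * (p3 * p1') * p2' * p3' := by rw [c m3 hx']; group
      _ = x * (p1 * x') * (p2 * p1') * (p3 * p2') * p3' := by rw [c m2 hx', c m3 m1']; group
      _ = x * x' * p1 * (p1' * p2) * (p2' * p3) * p3' := by rw [c m1 hx', c m2 m1', c m3 m2']; group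
      _ = x * x' * (p1 * p1') * (p2 * p2') * (p3 * p3') := by group
  inv_mem' := by
    rintro v ⟨hv, h⟩
    show v⁻¹ ∈ {v | v ∈ A ∧ _}
    rw [sqi H hv]
    exact ⟨hv, h⟩

theorem R_le (H : MExt A N π) (s y : N) : R H s y ≤ A := fun _ h => h.1

/-- the elements acting trivially modulo `R` -/
def D (H : MExt A N π) (s y : N) : Subgroup N where
  carrier := {g | ∀ x ∈ A, x * (g * x⁻¹ * (g : G)⁻¹) ∈ R H s y}
  one_mem' := by
    intro x hx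
    have : x * (((1 : N) : G) * x⁻¹ * ((1 : N) : G)⁻¹) = 1 := by simp
    rw [this]; exact one_mem _
  mul_mem' := by
    intro g h hg hh x hx
    have h1 := hh x hx
    have h2 := hg _ (A.inv_mem (R_le H s y h1))
    rw [inv_inv] at h2
    have h3 : x * (((g * h : N) : G) * x⁻¹ * ((g * h : N) : G)⁻¹) =
        (x * (g * x⁻¹ * (g : G)⁻¹)) * (g * (x * (h * x⁻¹ * (h : G)⁻¹)) * (g : G)⁻¹) := by
      push_cast; group
    rw [h3]
    refine mul_mem (hg x hx) ?_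
    have h4 : (g : G) * (x * (h * x⁻¹ * (h : G)⁻¹)) * (g : G)⁻¹ =
        (x * (h * x⁻¹ * (h : G)⁻¹)) * ((x * (h * x⁻¹ * (h : G)⁻¹))⁻¹ * ((g : G) * (x * (h * x⁻¹ * (h : G)⁻¹)) * (g : G)⁻¹)) := by
      rw [mul_inv_cancel_left]
    rw [h4]
    exact mul_mem h1 h2
  inv_mem' := by
    intro g hg x hx
    have hx' : (g : G)⁻¹ * x⁻¹ * g ∈ A := by
      have := H.nconj g⁻¹ (A.inv_mem hx)
      push_cast at this
      rwa [inv_inv] at this
    have h1 := hg _ hx'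
    have h2 : (g : G)⁻¹ * x⁻¹ * g * (g * ((g : G)⁻¹ * x⁻¹ * g)⁻¹ * (g : G)⁻¹) = ((g : G)⁻¹ * x⁻¹ * g) * x := by group
    rw [h2, H.comm hx' hx] at h1
    have h3 : x * (((g⁻¹ : N) : G) * x⁻¹ * ((g⁻¹ : N) : G)⁻¹) = x * ((g : G)⁻¹ * x⁻¹ * g) := by push_cast; group
    rw [h3]; exact h1

theorem y_mem (H : MExt A N π) (s y : N) : y ∈ D H s y := by
  intro x hx
  refine ⟨A.mul_mem hx (H.nconj y (A.inv_mem hx)), x, hx, 1, A.one_mem, ?_⟩
  group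

theorem s_mem (H : MExt A N π) (s y : N) : s ∈ D H s y := by
  have key : s⁻¹ ∈ D H s y := by
    intro t ht
    have ht' : (s : G)⁻¹ * t⁻¹ * s ∈ A := by
      have := H.nconj s⁻¹ (A.inv_mem ht)
      push_cast at this
      rwa [inv_inv] at this
    have hr : t * ((s : G)⁻¹ * t⁻¹ * s) ∈ A := A.mul_mem ht ht'
    have h0 : t * (((s⁻¹ : N) : G) * t⁻¹ * ((s⁻¹ : N) : G)⁻¹) = t * ((s : G)⁻¹ * t⁻¹ * s) := by push_cast; group
    rw [h0]
    -- `y r y⁻¹ ∈ R`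
    have h1 : (y : G) * (t * ((s : G)⁻¹ * t⁻¹ * s)) * (y : G)⁻¹ ∈ R H s y := by
      refine ⟨H.nconj y hr, 1, A.one_mem, t, ht, ?_⟩
      group
    have h2 := y_mem H s y _ (A.inv_mem hr)
    rw [inv_inv] at h2
    generalize t * ((s : G)⁻¹ * t⁻¹ * s) = r at *
    have h3 : r = ((y : G) * r * (y : G)⁻¹) * (r⁻¹ * ((y : G) * r * (y : G)⁻¹))⁻¹ := by group
    rw [h3]
    exact mul_mem h1 (inv_mem h2)
  have := (D H s y).inv_mem key
  rwa [inv_inv] at this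

theorem R_eq (H : MExt A N π) {s y w : N} (hw : w ∈ closure {s, y}) (h23 : orderOf (π w) = 23) {v : G} (hv : v ∈ A) :
    v ∈ R H s y := by
  have hwD : w ∈ D H s y := by
    refine (closure_le (D H s y)).2 ?_ hw
    rintro g (rfl | rfl)
    · exact s_mem H _ _
    · exact y_mem H _ _
  obtain ⟨x, hx, rfl⟩ := H.fill (s := w) (by rw [← h23, pow_orderOf_eq_one])
    (by intro h; rw [h, orderOf_one] at h23; omega) hv
  exact hwD x hx

/-- **the coset lemma** -/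
theorem cover (H : MExt A N π) {s y w : N} (hw : w ∈ closure {s, y}) (h23 : orderOf (π w) = 23) {h : N}
    (hh : π h = π s * π y * (π s)⁻¹ * (π y)⁻¹) :
    ∃ x ∈ A, ∃ t ∈ A, (h : G) = (s * x) * (y * t) * (s * x)⁻¹ * (y * t)⁻¹ := by
  have h1 : (h : G) * ((s * y * s⁻¹ * y⁻¹ : N) : G)⁻¹ ∈ A := by
    rw [← Subgroup.coe_inv, ← Subgroup.coe_mul, ← H.ker, map_mul, map_inv, hh]
    simp only [map_mul, map_inv]
    group
  have h2 : (s : G)⁻¹ * ((h : G) * ((s * y * s⁻¹ * y⁻¹ : N) : G)⁻¹) * s ∈ A := by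
    have := H.nconj s⁻¹ h1
    push_cast at this ⊢
    rwa [inv_inv] at this
  obtain ⟨-, x, hx, t, ht, e⟩ := R_eq H hw h23 h2
  refine ⟨x, hx, t, ht, ?_⟩
  have e1 : (h : G) = s * ((s : G)⁻¹ * ((h : G) * ((s * y * s⁻¹ * y⁻¹ : N) : G)⁻¹) * s) * (s : G)⁻¹ *
      ((s * y * s⁻¹ * y⁻¹ : N) : G) := by group
  rw [e1, e]
  push_cast
  have c := H.comm (A.inv_mem hx) ht
  calc (s : G) * (x * ((y : G) * x⁻¹ * (y : G)⁻¹) * ((y : G) * t * (y : G)⁻¹) *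
        ((y : G) * (s : G)⁻¹ * t⁻¹ * s * (y : G)⁻¹)) * (s : G)⁻¹ * (s * y * (s : G)⁻¹ * (y : G)⁻¹)
      = s * x * y * (x⁻¹ * t) * (s : G)⁻¹ * t⁻¹ * (y : G)⁻¹ := by group
    _ = s * x * y * (t * x⁻¹) * (s : G)⁻¹ * t⁻¹ * (y : G)⁻¹ := by rw [c]
    _ = _ := by group

end Cfsg.Agent.H265.TF.Coset
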