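import Cfsg.Agent.H6.QO.Frame

/-!
# Triple covers: the pairing of commuting elements (helper265, for S2491, S2492: `3.Fi24'`)

`p : L → K` a perfect central extension with kernel of order 3.

* `Good p k` : every element of `L` over `k` is a commutator;
* `Tri p c x` : `c`, `x` commute in `K`, their lifts do not commute; then the lifts of `x` are fused (`Tri.fuse`);
* `Tri.symm`, `Tri.conj`, `Tri.mul_right`, `Tri.inv_right`, `Tri.inv_left`;
* `Good.of_tri` (C1), `good_comm` (C2), `good_mul_of_conj_inv` : `x * y` with `Tri p c x` and `y` conjugate to `x⁻¹`.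
-/

set_option autoImplicit false

namespace Cfsg.Agent.H265.TF

open Subgroup Cfsg.Agent.H51.Mult Cfsg.Agent.H777.Ore

universe u v

variable {L : Type u} {K : Type v} [Group L] [Group K]

/-- every element over `k` is a commutator -/
def Good (p : L →* K) (k : K) : Prop := ∀ g : L, p g = k → IsC g

/-- commuting elements with non-commuting lifts -/
def Tri (p : L →* K) (c x : K) : Prop := Commute c x ∧ ∃ a b : L, p a = c ∧ p b = x ∧ a * b ≠ b * a

variable {p : L →* K}

theorem Good.conj {k : K} (h : Good p k) (hs : Function.Surjective p) (a : K) : Good p (a * k * a⁻¹) := by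
  intro g hg
  obtain ⟨a, rfl⟩ := hs a
  have h1 : p (a⁻¹ * g * a) = k := by rw [map_mul, map_mul, map_inv, hg]; group
  have h2 := (h _ h1).conj a
  rwa [show a * (a⁻¹ * g * a) * a⁻¹ = g by group] at h2

theorem Good.of_conj {k : K} (hs : Function.Surjective p) (a : K) (h : Good p (a * k * a⁻¹)) : Good p k := by
  have h1 := h.conj hs a⁻¹
  rwa [show a⁻¹ * (a * k * a⁻¹) * a⁻¹⁻¹ = k by group] at h1

/-- all lifts fail to commute -/
theorem Tri.all (hc : p.ker ≤ center L) {c x : K} (h : Tri p c x) {a b : L} (ha : p a = c) (hb : p b = x) :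
    a * b ≠ b * a := by
  obtain ⟨-, a', b', ha', hb', h1⟩ := h
  intro h2
  apply h1
  have e1 : p (a⁻¹ * a') = 1 := by rw [map_mul, map_inv, ha, ha', inv_mul_cancel]
  have e2 : p (b⁻¹ * b') = 1 := by rw [map_mul, map_inv, hb, hb', inv_mul_cancel]
  have c1 := fun y => mem_center_iff.1 (hc e1) y
  have c2 := fun y => mem_center_iff.1 (hc e2) y
  have f1 : a' = a * (a⁻¹ * a') := by group
  have f2 : b' = b * (b⁻¹ * b') := by group
  rw [f1, f2]
  generalize a⁻¹ * a' = u at *
  generalize b⁻¹ * b' = w at *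
  calc a * u * (b * w) = a * (u * b) * w := by group
    _ = (a * b) * (u * w) := by rw [← c1 b]; group
    _ = (b * a) * (w * u) := by rw [h2, c2 u]
    _ = b * (a * w) * u := by group
    _ = b * w * (a * u) := by rw [c2 a]; group

theorem Tri.symm {c x : K} (h : Tri p c x) : Tri p x c := by
  obtain ⟨h0, a, b, ha, hb, h1⟩ := h
  exact ⟨h0.symm, b, a, hb, ha, fun h => h1 h.symm⟩

theorem Tri.conj (hs : Function.Surjective p) {c x : K} (h : Tri p c x) (g : K) :
    Tri p (g * c * g⁻¹) (g * x * g⁻¹) := by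
  obtain ⟨h0, a, b, ha, hb, h1⟩ := h
  obtain ⟨g, rfl⟩ := hs g
  refine ⟨?_, g * a * g⁻¹, g * b * g⁻¹, by rw [map_mul, map_mul, map_inv, ha], by rw [map_mul, map_mul, map_inv, hb], ?_⟩
  · show (p g * c * (p g)⁻¹) * (p g * x * (p g)⁻¹) = (p g * x * (p g)⁻¹) * (p g * c * (p g)⁻¹)
    calc (p g * c * (p g)⁻¹) * (p g * x * (p g)⁻¹) = p g * (c * x) * (p g)⁻¹ := by group
      _ = p g * (x * c) * (p g)⁻¹ := by rw [h0.eq]
      _ = _ := by group
  · intro h2
    apply h1
    have h3 : g⁻¹ * ((g * a * g⁻¹) * (g * b * g⁻¹)) * g = g⁻¹ * ((g * b * g⁻¹) * (g * a * g⁻¹)) * g := by rw [h2]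
    calc a * b = g⁻¹ * ((g * a * g⁻¹) * (g * b * g⁻¹)) * g := by group
      _ = g⁻¹ * ((g * b * g⁻¹) * (g * a * g⁻¹)) * g := h3
      _ = b * a := by group

/-- the commutator of two lifts of commuting elements is in the kernel -/
theorem comm_ker {a b : L} (h : Commute (p a) (p b)) : a * b * a⁻¹ * b⁻¹ ∈ p.ker := by
  rw [MonoidHom.mem_ker]
  simp only [map_mul, map_inv]
  rw [h.eq]
  group

/-- multiplying `x` by an element of order prime to 3 which commutes with `c` -/
theorem Tri.mul_right (hs : Function.Surjective p) (hc : p.ker ≤ center L) (hk : Nat.card p.ker = 3) {c x v : K}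
    (h : Tri p c x) (hv : Commute c v) {n : ℕ} (hn : v ^ n = 1) (h3 : n.Coprime 3) : Tri p c (x * v) := by
  obtain ⟨h0, a, b, rfl, rfl, h1⟩ := h
  obtain ⟨w, rfl⟩ := hs v
  refine ⟨h0.mul_right hv, a, b * w, rfl, map_mul _ _ _, ?_⟩
  -- `a` and `w` commute
  have hz := comm_ker hv
  set z := a * w * a⁻¹ * w⁻¹ with hzd
  have hzc := fun y => mem_center_iff.1 (hc hz) y
  have hz3 : z ^ 3 = 1 := by
    have h2 : (⟨z, hz⟩ : p.ker) ^ 3 = 1 := by rw [← hk, pow_card_eq_one']
    exact congrArg Subtype.val h2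
  have hzn : z ^ n = 1 := by
    have key : ∀ m : ℕ, a * w ^ m * a⁻¹ = z ^ m * w ^ m := by
      intro m
      induction m with
      | zero => simp
      | succ m ih =>
        have e1 : a * w * a⁻¹ = z * w := by rw [hzd]; group
        calc a * w ^ (m + 1) * a⁻¹ = (a * w ^ m * a⁻¹) * (a * w * a⁻¹) := by rw [pow_succ]; group
          _ = z ^ m * w ^ m * (z * w) := by rw [ih, e1]
          _ = z ^ m * (w ^ m * z) * w := by group
          _ = z ^ m * (z * w ^ m) * w := by rw [hzc (w ^ m)]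
          _ = z ^ (m + 1) * w ^ (m + 1) := by rw [pow_succ, pow_succ]; group
    have h4 : w ^ n ∈ p.ker := by rw [MonoidHom.mem_ker, map_pow, hn]
    have h5 := mem_center_iff.1 (hc h4) a
    have h6 := key n
    rw [h5, mul_assoc, mul_inv_cancel, mul_one] at h6
    exact (right_eq_mul.1 h6)
  have hz1 : z = 1 := by
    have h7 : orderOf z ∣ Nat.gcd n 3 := Nat.dvd_gcd (orderOf_dvd_of_pow_eq_one hzn) (orderOf_dvd_of_pow_eq_one hz3)
    rw [h3.gcd_eq_one, Nat.dvd_one] at h7
    exact orderOf_eq_one_iff.1 h7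
  have haw : a * w = w * a := by
    have e1 : a * w = z * (w * a) := by rw [hzd]; group
    rw [e1, hz1, one_mul]
  intro h2
  apply h1
  have h3 : a * b * w = b * a * w := by
    calc a * b * w = a * (b * w) := by group
      _ = b * w * a := h2
      _ = b * (a * w) := by rw [haw]; group
      _ = _ := by group
  exact mul_right_cancel h3

/-- `c` may be multiplied too -/
theorem Tri.mul_left (hs : Function.Surjective p) (hc : p.ker ≤ center L) (hk : Nat.card p.ker = 3) {c x v : K}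
    (h : Tri p c x) (hv : Commute x v) {n : ℕ} (hn : v ^ n = 1) (h3 : n.Coprime 3) : Tri p (c * v) x :=
  (h.symm.mul_right hs hc hk hv hn h3).symm

theorem Tri.inv_right {c x : K} (h : Tri p c x) : Tri p c x⁻¹ := by
  obtain ⟨h0, a, b, ha, hb, h1⟩ := h
  refine ⟨h0.inv_right, a, b⁻¹, ha, by rw [map_inv, hb], fun h2 => h1 ?_⟩
  have h3 : Commute a b⁻¹⁻¹ := (show Commute a b⁻¹ from h2).inv_right
  rw [inv_inv] at h3
  exact h3.eq

theorem Tri.inv_left {c x : K} (h : Tri p c x) : Tri p c⁻¹ x := h.symm.inv_right.symm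

/-- **the lifts are fused** -/
theorem Tri.fuse (hs : Function.Surjective p) (hc : p.ker ≤ center L) (hk : Nat.card p.ker = 3) {c x : K}
    (h : Tri p c x) {g : L} (hg : p g = x) {ζ : L} (hζ : p ζ = 1) : IsConj g (g * ζ) := by
  obtain ⟨a, ha⟩ := hs c
  have h1 := h.all hc ha hg
  have h0 := h.1
  rw [← ha, ← hg] at h0
  have hz := comm_ker h0
  set z := a * g * a⁻¹ * g⁻¹ with hzd
  have hz1 : z ≠ 1 := by
    intro h2
    apply h1
    have e1 : a * g = z * (g * a) := by rw [hzd]; group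
    rw [e1, h2, one_mul]
  have hzc := fun y => mem_center_iff.1 (hc hz) y
  have hfin : Finite p.ker := Nat.finite_of_card_ne_zero (by rw [hk]; norm_num)
  -- `ζ` is a power of `z`
  have hgen : (⟨ζ, hζ⟩ : p.ker) ∈ zpowers (⟨z, hz⟩ : p.ker) := by
    have h3 : zpowers (⟨z, hz⟩ : p.ker) = ⊤ := by
      have : Fact (Nat.Prime 3) := ⟨Nat.prime_three⟩
      have hne : (⟨z, hz⟩ : p.ker) ≠ 1 := fun h => hz1 (congrArg Subtype.val h)
      exact zpowers_eq_top_of_prime_card hk hne
    rw [h3]; exact mem_top _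
  obtain ⟨n, hn⟩ := mem_zpowers_iff.1 hgen
  have hn' : z ^ n = ζ := congrArg Subtype.val hn
  refine isConj_iff.2 ⟨a ^ n, ?_⟩
  -- conjugation by `a` multiplies by `z`
  have e1 : a * g * a⁻¹ = g * z := by
    have : a * g * a⁻¹ = z * g := by rw [hzd]; group
    rw [this, hzc g]
  have key : ∀ m : ℕ, a ^ m * g * (a ^ m)⁻¹ = g * z ^ m := by
    intro m
    induction m with
    | zero => simp
    | succ m ih =>
      have h2 : a ^ m * z = z * a ^ m := hzc (a ^ m)
      have h2' : a ^ m * z * (a ^ m)⁻¹ = z := by rw [h2, mul_assoc, mul_inv_cancel, mul_one]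
      calc a ^ (m + 1) * g * (a ^ (m + 1))⁻¹ = a ^ m * (a * g * a⁻¹) * (a ^ m)⁻¹ := by rw [pow_succ]; group
        _ = (a ^ m * g * (a ^ m)⁻¹) * (a ^ m * z * (a ^ m)⁻¹) := by rw [e1]; group
        _ = g * z ^ m * z := by rw [ih, h2']
        _ = g * z ^ (m + 1) := by rw [mul_assoc, ← pow_succ]
  rcases Int.eq_nat_or_neg n with ⟨m, rfl | rfl⟩
  · rw [zpow_natCast] at hn' ⊢
    rw [key m, hn']
  · have h5 : z ^ m = ζ⁻¹ := by
      rw [← hn', zpow_neg, zpow_natCast, inv_inv]
    have h6 := key m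
    rw [h5] at h6
    rw [zpow_neg, zpow_natCast, inv_inv]
    have hζc := fun y => mem_center_iff.1 (hc hζ) y
    calc (a ^ m)⁻¹ * g * a ^ m = (a ^ m)⁻¹ * (g * ζ⁻¹) * ζ * a ^ m := by group
      _ = (a ^ m)⁻¹ * (a ^ m * g * (a ^ m)⁻¹) * (ζ * a ^ m) := by rw [h6]; group
      _ = (a ^ m)⁻¹ * (a ^ m * g * (a ^ m)⁻¹) * (a ^ m * ζ) := by rw [hζc (a ^ m)]
      _ = g * ζ := by group

/-- **(C1)** -/
theorem Good.of_tri (hs : Function.Surjective p) (hc : p.ker ≤ center L) (hk : Nat.card p.ker = 3) {c x : K}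
    (h : Tri p c x) (hx : IsC x) : Good p x := by
  intro g hg
  exact H6.QO.isC_of_conj_all hs (by rw [hg]; exact hx) fun ζ hζ => h.fuse hs hc hk hg hζ

/-- **(C2)** -/
theorem good_comm (hs : Function.Surjective p) (hc : p.ker ≤ center L) (hk : Nat.card p.ker = 3) {c x : K}
    (h : Tri p c x) (y : K) : Good p (x * y * x⁻¹ * y⁻¹) := by
  intro g hg
  obtain ⟨x', rfl⟩ := hs x
  exact H6.QO.isC_of_pair hs hc hg fun ζ hζ => h.fuse hs hc hk rfl hζ

/-- a product of a fused element and of a conjugate of its inverse -/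
theorem good_mul (hs : Function.Surjective p) (hc : p.ker ≤ center L) (hk : Nat.card p.ker = 3) {c x y g : K}
    (h : Tri p c x) (hy : g * x * g⁻¹ = y⁻¹) : Good p (x * y) := by
  have h1 := good_comm hs hc hk h g
  have h2 : y = g * x⁻¹ * g⁻¹ := by
    rw [← inv_inv y, ← hy]; group
  rw [h2]
  rwa [show x * (g * x⁻¹ * g⁻¹) = x * g * x⁻¹ * g⁻¹ by group]

end Cfsg.Agent.H265.TF
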