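import Cfsg.Agent.H265.TF.Six
import Cfsg.Agent.H265.TF.Coset
import Cfsg.Agent.H854.Ore.Fi24Two
import Cfsg.Agent.H64.QF.M24CertB

/-!
# `3.Fi24'`: an element of class `3E` in `2^11 . M24` (helper265, for S2491, S2492)

`sE` (order 3, class `3E`) permutes the 24 base transpositions as the element `S8` of `M24`; `cE` commutes with `sE`,
with the products over the orbits of `sE`, and their lifts do not commute.
-/

set_option autoImplicit false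
set_option maxRecDepth 100000
set_option Elab.async false

namespace Cfsg.Agent.H265.TF

open Cfsg Subgroup Cfsg.Agent.H51.Mult Cfsg.Agent.H777.Ore
open Cfsg.Spor.Fi24 (Gen)
open Cfsg.Agent.H52.ThreeFi24 Cfsg.Agent.H52.ThreeFi24Chk Cfsg.Agent.R08.TThree
open Cfsg.Agent.Fischer.Fi24RepDef Cfsg.Agent.Fischer.Fi24Rep Cfsg.Agent.Lib.PermNet Cfsg.Agent.Lib.PermNetPt
open Cfsg.Agent.Fischer.Fi24Spider (word_append word_cons word_nil gword)
open Cfsg.Agent.H827.CocoD (word_mem word_reverse d dword conj_d)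
open Cfsg.Agent.LThreeFi24.FiveConj (eqB eq_of_eqB)
open Cfsg.Spor (Fi24)
open Cfsg.Agent.Schreier.FiBasic

def sw : List Gen := [.b,.c,.b,.a,.b,.c,.f,.g,.f,.e,.f,.g,.i,.h,.i,.d,.h,.e,.d,.c,.d,.e,.h,.d,.i,.h,.j,.g,.f,.g,.j,.e,.d,.h,.j,.g,.f,.e,
  .d,.c,.d,.e,.f,.g,.j,.h,.d,.e,.i,.h,.i,.d,.h,.e,.d,.c,.d,.e,.h,.d,.i,.h,.k,.l,.k,.b,.c,.d,.h,.e,.d,.c,.b,.l,.k,.a,
  .k,.l,.b,.c,.d,.e,.h,.d,.c,.b,.a,.k]

def cw : List Gen := [.d,.h,.i,.e,.a,.b,.c,.d,.h,.e,.f,.c,.d,.e,.b,.c,.d,.h,.i,.e,.f,.d,.e,.b,.c,.d,.h,.g,.f,.e,.d,.c,.b,.a,.k,.i,.b,.c,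
  .d,.h,.g,.e,.f,.d,.e,.c,.d,.h,.i,.f,.d,.e,.b,.c,.d,.h,.j,.g,.f,.e,.d,.c,.b,.a,.b,.c,.d,.h,.e,.f,.g,.j,.d,.e,.f,.g,
  .h,.i,.c,.d,.h,.e,.f,.c,.d,.e,.b,.c,.d,.h,.i,.h,.c,.d,.e,.b,.c,.d,.h,.b,.c,.d,.k,.a]

/-- half words of the base transpositions -/
def hu : ℕ → List Gen
  | 0 => []
  | 1 => []
  | 2 => []
  | 3 => []
  | 4 => []
  | 5 => [.d,.h,.e,.d]
  | 6 => [.b,.c,.d,.h,.e,.d,.c,.b]
  | 7 => [.k,.a,.b,.c,.d,.h,.e,.d,.c,.b,.l,.k]
  | 8 => []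
  | 9 => [.f,.e,.d,.h,.g,.f,.e,.d]
  | 10 => [.f,.e,.b,.c,.d,.h,.g,.f,.e,.d,.c,.b]
  | 11 => [.f,.e,.k,.a,.b,.c,.d,.h,.g,.f,.e,.d,.c,.b,.l,.k]
  | 12 => [.d,.e,.f,.c,.d,.e,.b,.c,.d,.h,.g,.f,.e,.d,.c,.b]
  | 13 => [.d,.h,.e,.f,.d,.e,.b,.c,.d,.h,.g,.f,.e,.d,.c,.b]
  | 14 => [.b,.c,.d,.h,.e,.f,.d,.e,.c,.d,.h,.g,.f,.e,.d,.c]
  | 15 => [.i,.h,.d,.e,.c,.d,.h,.i,.f,.e,.b,.c,.d,.h,.g,.f,.e,.d,.c,.b]
  | 16 => [.i,.h,.d,.e,.c,.d,.h,.i,.f,.e,.k,.a,.b,.c,.d,.h,.g,.f,.e,.d,.c,.b,.l,.k]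
  | 17 => [.i,.h,.d,.e,.c,.d,.h,.i,.d,.e,.f,.c,.d,.e,.b,.c,.d,.h,.g,.f,.e,.d,.c,.b]
  | 18 => [.i,.h,.d,.e,.c,.d,.h,.i,.d,.h,.e,.f,.d,.e,.b,.c,.d,.h,.g,.f,.e,.d,.c,.b]
  | 19 => [.i,.h,.b,.c,.d,.e,.a,.b,.c,.d,.h,.i,.f,.e,.k,.a,.b,.c,.d,.h,.g,.f,.e,.d,.c,.b,.l,.k]
  | 20 => [.i,.h,.b,.c,.d,.e,.a,.b,.c,.d,.h,.i,.d,.e,.f,.c,.d,.e,.b,.c,.d,.h,.g,.f,.e,.d,.c,.b]
  | 21 => [.d,.h,.i,.c,.d,.h,.b,.c,.d,.e,.a,.b,.c,.d,.h,.i,.f,.e,.k,.a,.b,.c,.d,.h,.g,.f,.e,.d,.c,.b,.l,.k]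
  | 22 => [.d,.h,.i,.e,.d,.h,.b,.c,.d,.e,.a,.b,.c,.d,.h,.i,.f,.e,.k,.a,.b,.c,.d,.h,.g,.f,.e,.d,.c,.b,.l,.k]
  | 23 => [.j,.g,.f,.e,.d,.h,.c,.d,.e,.b,.c,.d,.h,.f,.g,.e,.f,.d,.e,.c,.d,.h,.j,.g,.f,.e,.d,.c]
  | _ => []

/-- middle letters -/
def hx : ℕ → Gen
  | 0 => .l
  | 1 => .a
  | 2 => .c
  | 3 => .e
  | 4 => .h
  | 5 => .c
  | 6 => .a
  | 7 => .a
  | 8 => .g
  | 9 => .c
  | 10 => .a
  | 11 => .a
  | 12 => .a
  | 13 => .a
  | 14 => .b
  | 15 => .a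
  | 16 => .a
  | 17 => .a
  | 18 => .a
  | 19 => .a
  | 20 => .a
  | 21 => .a
  | 22 => .a
  | 23 => .b
  | _ => .l

def tw (n : ℕ) : List Gen := hu n ++ hx n :: (hu n).reverse

theorem dw0 : chkPt (nw (hu 0 ++ gword (hx 0)) false) 0 0 = true := by decide +kernel
theorem dw1 : chkPt (nw (hu 1 ++ gword (hx 1)) false) 0 1 = true := by decide +kernel
theorem dw2 : chkPt (nw (hu 2 ++ gword (hx 2)) false) 0 2 = true := by decide +kernel
theorem dw3 : chkPt (nw (hu 3 ++ gword (hx 3)) false) 0 3 = true := by decide +kernel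
theorem dw4 : chkPt (nw (hu 4 ++ gword (hx 4)) false) 0 4 = true := by decide +kernel
theorem dw5 : chkPt (nw (hu 5 ++ gword (hx 5)) false) 0 5 = true := by decide +kernel
theorem dw6 : chkPt (nw (hu 6 ++ gword (hx 6)) false) 0 6 = true := by decide +kernel
theorem dw7 : chkPt (nw (hu 7 ++ gword (hx 7)) false) 0 7 = true := by decide +kernel
theorem dw8 : chkPt (nw (hu 8 ++ gword (hx 8)) false) 0 8 = true := by decide +kernel
theorem dw9 : chkPt (nw (hu 9 ++ gword (hx 9)) false) 0 9 = true := by decide +kernel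
theorem dw10 : chkPt (nw (hu 10 ++ gword (hx 10)) false) 0 10 = true := by decide +kernel
theorem dw11 : chkPt (nw (hu 11 ++ gword (hx 11)) false) 0 11 = true := by decide +kernel
theorem dw12 : chkPt (nw (hu 12 ++ gword (hx 12)) false) 0 12 = true := by decide +kernel
theorem dw13 : chkPt (nw (hu 13 ++ gword (hx 13)) false) 0 13 = true := by decide +kernel
theorem dw14 : chkPt (nw (hu 14 ++ gword (hx 14)) false) 0 14 = true := by decide +kernel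
theorem dw15 : chkPt (nw (hu 15 ++ gword (hx 15)) false) 0 15 = true := by decide +kernel
theorem dw16 : chkPt (nw (hu 16 ++ gword (hx 16)) false) 0 16 = true := by decide +kernel
theorem dw17 : chkPt (nw (hu 17 ++ gword (hx 17)) false) 0 17 = true := by decide +kernel
theorem dw18 : chkPt (nw (hu 18 ++ gword (hx 18)) false) 0 18 = true := by decide +kernel
theorem dw19 : chkPt (nw (hu 19 ++ gword (hx 19)) false) 0 19 = true := by decide +kernel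
theorem dw20 : chkPt (nw (hu 20 ++ gword (hx 20)) false) 0 20 = true := by decide +kernel
theorem dw21 : chkPt (nw (hu 21 ++ gword (hx 21)) false) 0 21 = true := by decide +kernel
theorem dw22 : chkPt (nw (hu 22 ++ gword (hx 22)) false) 0 22 = true := by decide +kernel
theorem dw23 : chkPt (nw (hu 23 ++ gword (hx 23)) false) 0 23 = true := by decide +kernel

theorem dw_all : ∀ n < 24, chkPt (nw (hu n ++ gword (hx n)) false) 0 n = true := by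
  intro n hn
  interval_cases n
  · exact dw0
  · exact dw1
  · exact dw2
  · exact dw3
  · exact dw4
  · exact dw5
  · exact dw6
  · exact dw7
  · exact dw8
  · exact dw9
  · exact dw10
  · exact dw11
  · exact dw12
  · exact dw13
  · exact dw14
  · exact dw15
  · exact dw16
  · exact dw17
  · exact dw18
  · exact dw19
  · exact dw20
  · exact dw21
  · exact dw22
  · exact dw23

theorem lab_lt : ∀ p : GolayPt, lab p < 24 := by decide +kernel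

theorem word_tw (p : GolayPt) : word (tw (lab p)) = d p := dword rfl (dw_all _ (lab_lt p))

/-- the action of `sE` on the base -/
def rowsE : List (ℕ × ℕ) := [(0, 2), (1, 0), (2, 1), (3, 4), (4, 8), (5, 10), (6, 9), (7, 11), (8, 3), (9, 23), (10, 21), (11, 22), (12, 15), (13, 20), (14, 13), (15, 19), (16, 18), (17, 16), (18, 17), (19, 12), (20, 14), (21, 5), (22, 7), (23, 6)]

theorem chk_rows : chkP (nw sw false) rowsE = true := by decide +kernel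

theorem chk_cube : eqB (sw ++ sw ++ sw) [] = true := by decide +kernel
theorem chk_comm : eqB (cw ++ sw) (sw ++ cw) = true := by decide +kernel
theorem chk_ne : Nat.beq (im (cw ++ sw ++ cw.reverse ++ sw.reverse)) 0 = false := by decide +kernel

/-- the word of the product over the orbits of `none` and of the point with label `n` -/
def ow (a b c : ℕ) : List Gen := tw a ++ tw b ++ tw c ++ (tw 0 ++ tw 2 ++ tw 1)

theorem chk_o0 : eqB (cw ++ ow 3 4 8) (ow 3 4 8 ++ cw) = true := by decide +kernel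
theorem chk_o1 : eqB (cw ++ ow 5 10 21) (ow 5 10 21 ++ cw) = true := by decide +kernel
theorem chk_o2 : eqB (cw ++ ow 6 9 23) (ow 6 9 23 ++ cw) = true := by decide +kernel
theorem chk_o3 : eqB (cw ++ ow 7 11 22) (ow 7 11 22 ++ cw) = true := by decide +kernel
theorem chk_o4 : eqB (cw ++ ow 12 15 19) (ow 12 15 19 ++ cw) = true := by decide +kernel
theorem chk_o5 : eqB (cw ++ ow 13 20 14) (ow 13 20 14 ++ cw) = true := by decide +kernel
theorem chk_o6 : eqB (cw ++ ow 16 18 17) (ow 16 18 17 ++ cw) = true := by decide +kernel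

end Cfsg.Agent.H265.TF
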