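import Cfsg.Agent.H265.TF.Zeta
import Cfsg.Agent.H49.Four.ThreeInv

/-!
# `3.Fi24'`: every lift of an element of order 3 of `Fi24'` is a commutator (helper265, for S2491, S2492)

* `Good.conj24` : the property is invariant under `Fi24`;
* `good_word` : a product of two elements of class `3A`;
* `six` : **(R6)** the elements with `s ^ 3 = 1`.
-/

set_option autoImplicit false
set_option maxRecDepth 100000
set_option Elab.async false

namespace Cfsg.Agent.H265.TF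

open Cfsg Subgroup Cfsg.Agent.H51.Mult Cfsg.Agent.H777.Ore
open Cfsg.Spor.Fi24 (Gen)
open Cfsg.Agent.H52.ThreeFi24 Cfsg.Agent.H52.ThreeFi24Chk Cfsg.Agent.R08.TThree
open Cfsg.Agent.Fischer.Fi24Rep (gen word)
open Cfsg.Agent.Fischer.Fi24Spider (word_append word_cons word_nil)
open Cfsg.Agent.H827.CocoD (word_mem word_reverse)
open Cfsg.Agent.LThreeFi24.FiveConj (eqB eq_of_eqB)
open Cfsg.Spor (Fi24)

/-- conjugation by an element of `Fi24` -/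
noncomputable def cj (g : Fi24) (k : Spor.Fi24') : Spor.Fi24' :=
  ⟨g * k * g⁻¹, (inferInstance : (commutator Fi24).Normal).conj_mem _ k.2 g⟩

theorem Good.conj24 {k : Spor.Fi24'} (h : Good π3 k) (g : Fi24) : Good π3 (cj g k) := by
  obtain ⟨G, rfl⟩ := q3_surj g
  intro m hm
  have hn : (commutator P3).Normal := inferInstance
  set m' : L3 := ⟨G⁻¹ * m * G, by
    have h1 := hn.conj_mem _ m.2 G⁻¹
    rwa [inv_inv] at h1⟩ with hm'
  have h1 : π3 m' = k := by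
    apply Subtype.ext
    rw [π3_coe]
    show q3 (G⁻¹ * m * G) = k
    have h2 := congrArg Subtype.val hm
    rw [π3_coe] at h2
    have h3 : q3 (m : P3) = q3 G * k * (q3 G)⁻¹ := h2
    rw [map_mul, map_mul, map_inv, h3]
    group
  obtain ⟨a, b, hab⟩ := h m' h1
  refine ⟨⟨G * a * G⁻¹, hn.conj_mem _ a.2 G⟩, ⟨G * b * G⁻¹, hn.conj_mem _ b.2 G⟩, Subtype.ext ?_⟩
  have h4 : G⁻¹ * (m : P3) * G = (a : P3) * b * (a : P3)⁻¹ * (b : P3)⁻¹ := congrArg Subtype.val hab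
  show (m : P3) = (G * a * G⁻¹) * (G * b * G⁻¹) * (G * a * G⁻¹)⁻¹ * (G * b * G⁻¹)⁻¹
  calc (m : P3) = G * (G⁻¹ * (m : P3) * G) * G⁻¹ := by group
    _ = G * ((a : P3) * b * (a : P3)⁻¹ * (b : P3)⁻¹) * G⁻¹ := by rw [h4]
    _ = _ := by group

theorem Good.of_conj24 {k : Spor.Fi24'} (g : Fi24) (h : Good π3 (cj g k)) : Good π3 k := by
  have h1 := h.conj24 g⁻¹
  have h2 : cj g⁻¹ (cj g k) = k := by
    apply Subtype.ext
    show g⁻¹ * (g * k * g⁻¹) * g⁻¹⁻¹ = (k : Fi24)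
    group
  rwa [h2] at h1

/-- inverses -/
theorem Good.inv {k : Spor.Fi24'} (h : Good π3 k) : Good π3 k⁻¹ := by
  intro g hg
  obtain ⟨a, b, hab⟩ := h g⁻¹ (by rw [map_inv, hg, inv_inv])
  refine ⟨b, a, ?_⟩
  rw [← inv_inv g, hab]
  group

theorem hs3 : Function.Surjective π3 := pce.surj
theorem hc3 : π3.ker ≤ center L3 := pce.cen

/-- **a product of two elements of class `3A`** -/
theorem good_word {g h w : List Gen} (hg : g.length % 2 = 0) (hh : h.length % 2 = 0) (hw : w.length % 2 = 0)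
    (chk : eqB (g ++ sw0 ++ g.reverse ++ (h ++ sw0.reverse ++ h.reverse)) w = true) : Good π3 (wK w hw) := by
  have h1 := tri_lk.conj hs3 (wK g hg)
  have h2 : (wK h hh * (wK g hg)⁻¹) * (wK g hg * s0 * (wK g hg)⁻¹) * (wK h hh * (wK g hg)⁻¹)⁻¹ =
      (wK h hh * s0⁻¹ * (wK h hh)⁻¹)⁻¹ := by group
  have h3 := good_mul hs3 hc3 card_ker_L3 h1 h2
  have h4 : wK g hg * s0 * (wK g hg)⁻¹ * (wK h hh * s0⁻¹ * (wK h hh)⁻¹) = wK w hw := by
    apply Subtype.ext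
    show word g * word sw0 * (word g)⁻¹ * (word h * (word sw0)⁻¹ * (word h)⁻¹) = word w
    rw [← eq_of_eqB chk]
    simp only [word_append, word_reverse]
  rwa [h4] at h3

/-! ### the five classes -/

theorem one : Good π3 (1 : Spor.Fi24') := by
  have h := good_comm hs3 hc3 card_ker_L3 tri_lk 1
  rwa [show s0 * 1 * s0⁻¹ * 1⁻¹ = (1 : Spor.Fi24') by group] at h

/-- every element with `s ^ 3 = 1` is a commutator in `Fi24'` -/
theorem isC_three {s : Spor.Fi24'} (hs : s ^ 3 = 1) : IsC s := by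
  obtain ⟨a, b, h⟩ := H49.Four.ThreeInv.three_comm hs
  exact ⟨a, b, h.symm⟩

def X1 : List Gen := [.l,.k,.b,.c]
def X2 : List Gen := LThreeFi24.TwinK.wx3
def X3 : List Gen := [.l,.k,.b,.c,.e,.f]
def X4 : List Gen := H842.FrameK.x5w

def g1 : List Gen := []
def h1 : List Gen := [.l,.k,.a,.b,.c,.l,.k,.a,.b,.l,.k,.a,.l,.k,.l,.e]
def g2 : List Gen := [.a,.b,.k,.a,.l,.k,.c,.d,.e,.f,.b,.c,.d,.e,.a,.b,.c,.d,.h,.i,.g,.f,.e,.d,.h,.j,.g,.f,.e,.d,.c,.b,.a,.l,.g,.f,.d,.e,.c,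
  .d,.h,.i,.b,.c,.d,.h,.e,.f,.g,.j,.d,.e,.f,.g,.i,.h,.f,.d,.e,.c,.d,.h,.i,.c,.d,.h,.e,.f,.d,.e,.c,.d,.h,.b,.c,.d,.e,.f,
  .g,.j,.e,.d,.h,.i,.b,.c,.d,.c]
def h2 : List Gen := [.d,.e,.k,.a,.b,.c,.d,.h,.f,.g,.e,.f,.d,.e,.b,.c,.d,.h,.i,.e,.f,.d,.e,.b,.c,.d,.h,.j,.g,.f,.e,.d,.c,.b,.a,.k,.b,.c,.d,
  .h,.e,.f,.d,.e,.b,.c,.d,.h,.i,.g,.e,.f,.d,.e,.b,.c,.d,.h,.j,.g,.f,.e,.d,.c,.b,.a,.l,.h,.g,.j,.c,.d,.e,.f,.g,.i,.h,.d,
  .e,.c,.d,.h,.i,.h,.f,.c,.d,.e,.b,.c,.d,.h,.d,.e,.d,.b,.c,.d,.k,.a,.i,.k]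
def c3 : List Gen := [.h,.a,.b,.c,.d,.h,.i,.e,.d,.h,.f,.g,.e,.f,.c,.d,.e,.b,.c,.d,.h,.i,.e,.f,.d,.e,.b,.c,.d,.h,.j,.g,.f,.e,.d,.c,.b,.a,.b,
  .c,.d,.e,.f,.g,.j,.h,.d,.c,.b,.e,.d,.f,.e,.i,.h,.d,.c,.b,.e,.d,.c,.f,.e,.g,.f,.h,.d,.e,.i,.h,.d,.c,.b,.a]
def c4 : List Gen := [.e,.c,.d,.h,.e,.f,.c,.d,.e,.b,.c,.d,.h,.i,.g,.f,.d,.e,.c,.d,.h,.j,.g,.f,.e,.d,.c,.b,.k,.a,.k,.b,.c,.d,.e,.f,.g,.j,.h,
  .d,.c,.e,.d,.f,.g,.i,.h,.d,.c,.b,.e,.d,.c,.f,.e,.h,.d,.c,.e,.j,.g,.f,.c,.d,.e,.b,.c,.d,.h,.i,.c,.d,.e,.b,.c,.d,.h,.j,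
  .g,.f,.e,.d,.c,.b,.l,.k,.a,.k,.l,.b,.c,.d,.e,.f,.g,.j,.h,.d,.c,.b,.e,.d,.c,.i,.h,.d,.c,.b,.e,.d,.c,.f,.g,.j]

theorem chk1 : eqB (g1 ++ sw0 ++ g1.reverse ++ (h1 ++ sw0.reverse ++ h1.reverse)) X1 = true := by decide +kernel
theorem chk2 : eqB (g2 ++ sw0 ++ g2.reverse ++ (h2 ++ sw0.reverse ++ h2.reverse)) X2 = true := by decide +kernel
theorem chk3 : eqB (c3 ++ X3) (X3 ++ c3) = true := by decide +kernel
theorem chk3' : Nat.beq (im (c3 ++ X3 ++ c3.reverse ++ X3.reverse)) 0 = false := by decide +kernel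
theorem chk4 : eqB (c4 ++ X4) (X4 ++ c4) = true := by decide +kernel
theorem chk4' : Nat.beq (im (c4 ++ X4 ++ c4.reverse ++ X4.reverse)) 0 = false := by decide +kernel
theorem cube3 : eqB (X3 ++ X3 ++ X3) [] = true := by decide +kernel
theorem cube4 : eqB (X4 ++ X4 ++ X4) [] = true := by decide +kernel

/-- the elements of class `3D` are fused -/
theorem tri3 : Tri π3 (wK c3 rfl) (wK X3 rfl) := tri_of_chk rfl rfl chk3 chk3'

/-- the elements of class `3E` are fused -/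
theorem tri4 : Tri π3 (wK c4 rfl) (wK X4 rfl) := tri_of_chk rfl rfl chk4 chk4'

theorem cube_wK {w : List Gen} (hw : w.length % 2 = 0) (h : eqB (w ++ w ++ w) [] = true) : (wK w hw) ^ 3 = 1 := by
  apply Subtype.ext
  have h1 := eq_of_eqB h
  rw [word_append, word_append, word_nil] at h1
  show (word w) ^ 3 = 1
  rw [pow_succ, pow_two, h1]

theorem cube_s0 : s0 ^ 3 = 1 := cube_wK rfl (by decide +kernel)

theorem goodX0 : Good π3 s0 := Good.of_tri hs3 hc3 card_ker_L3 tri_lk (isC_three cube_s0)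
theorem goodX1 : Good π3 (wK X1 rfl) := good_word rfl rfl rfl chk1
theorem goodX2 : Good π3 (wK X2 rfl) := good_word rfl rfl rfl chk2
theorem goodX3 : Good π3 (wK X3 rfl) := Good.of_tri hs3 hc3 card_ker_L3 tri3 (isC_three (cube_wK rfl cube3))
theorem goodX4 : Good π3 (wK X4 rfl) := Good.of_tri hs3 hc3 card_ker_L3 tri4 (isC_three (cube_wK rfl cube4))

theorem goodX (i : Fin 5) : ∃ k : Spor.Fi24', (k : Fi24) = H842.ThreeCl.X i ∧ Good π3 k := by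
  fin_cases i
  · exact ⟨s0, by show word sw0 = gen .l * gen .k; simp [sw0, word_cons, word_nil], goodX0⟩
  · exact ⟨_, rfl, goodX1⟩
  · exact ⟨_, rfl, goodX2⟩
  · exact ⟨_, rfl, goodX3⟩
  · exact ⟨_, rfl, goodX4⟩

/-- **(R6)** -/
theorem six {s : Spor.Fi24'} (hs : s ^ 3 = 1) : Good π3 s := by
  by_cases h1 : s = 1
  · rw [h1]; exact one
  obtain ⟨i, g, h⟩ := H842.ThreeCl.all H49.Four.TEight.fgroup24' H49.Four.TEight.isT8 (y := (s : Fi24))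
    (by have := congrArg Subtype.val hs; simpa using this) (fun h => h1 (Subtype.ext h))
  obtain ⟨k, hk, hgood⟩ := goodX i
  refine Good.of_conj24 g ?_
  rcases h with h | h
  · have e : cj g s = k := Subtype.ext (h.trans hk.symm)
    rw [e]; exact hgood
  · have e : cj g s = k⁻¹ := Subtype.ext (h.trans (by rw [← hk]; rfl))
    rw [e]; exact hgood.inv

end Cfsg.Agent.H265.TF
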