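import Cfsg.Agent.H265.TF.TwoP

/-!
# `3.Fi24'`: all lifts of the 2-elements, and of the elements of order `3 * 2 ^ n` of `2^11 . M24` (helper265, for S2491, S2492)

* `good_N` : `h ∈ N(AA)`, `(ind h) ^ (3 * 2 ^ n) = 1`, `ind h ≠ 1`: all lifts are commutators;
* `good_A` : the elements of `AA = 2^11`;
* `two` : **(R2)**; `good_into` : **(R2b)** modulo the containment in `N(AA)`.
-/

set_option autoImplicit false
set_option maxRecDepth 100000
set_option Elab.async false

namespace Cfsg.Agent.H265.TF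

open Cfsg Subgroup Cfsg.Agent.H51.Mult Cfsg.Agent.H777.Ore
open Cfsg.Spor.Fi24 (Gen)
open Cfsg.Agent.H52.ThreeFi24 Cfsg.Agent.H52.ThreeFi24Chk Cfsg.Agent.R08.TThree
open Cfsg.Agent.Fischer.Fi24RepDef Cfsg.Agent.Fischer.Fi24Rep Cfsg.Agent.Lib.PermNetPt
open Cfsg.Agent.Lib.PermNet hiding tau
open Cfsg.Agent.Fischer.Fi24Spider (word_append word_cons word_nil gword)
open Cfsg.Agent.H827.CocoD (word_mem word_reverse d dword conj_d e)
open Cfsg.Agent.H827.Coco
open Cfsg.Agent.LThreeFi24.FiveConj (eqB eq_of_eqB)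
open Cfsg.Spor (Fi24)
open Cfsg.Agent.Schreier.FiBasic
open Cfsg.Agent.SporadicStructure.M24El Cfsg.Agent.SporadicA.GolayBase Cfsg.Agent.SporadicA.GolayPerm
open Cfsg.Agent.H64.QF.M24Cert (S8 ok_S8 S8_cube m24_cert8)
open Cfsg.Agent.H854.Ore (MExt)

/-- **the elements of `N(AA)` outside `AA`** -/
theorem good_N {h : ↥(normalizer (AA : Set Spor.Fi24'))} {n : ℕ} (hu : (ind h) ^ (3 * 2 ^ n) = 1) (h1 : ind h ≠ 1) :
    Good π3 (h : Spor.Fi24') := by
  obtain ⟨g, y, w, e1, hw, h23⟩ := m24_cert8 hu h1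
  obtain ⟨g, rfl⟩ := ind_surj g
  obtain ⟨Y, rfl⟩ := ind_surj y
  have h6 : (closure {sN, Y}).map ind = closure {S8, ind Y} := by
    rw [MonoidHom.map_closure, Set.image_pair, ind_sN]
  rw [← h6] at hw
  obtain ⟨W, hW, rfl⟩ := hw
  obtain ⟨x, hx, t, ht, e2⟩ := Coset.cover ext hW h23 (h := g * h * g⁻¹) (by
    rw [map_mul, map_mul, map_inv, e1, ind_sN])
  obtain ⟨c, hc⟩ := tri_sv hx
  have h3 := good_comm hs3 hc3 card_ker_L3 hc ((Y : Spor.Fi24') * t)
  refine Good.of_conj hs3 (g : Spor.Fi24') ?_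
  have e3 : (g : Spor.Fi24') * h * (g : Spor.Fi24')⁻¹ = (sE * x) * (Y * t) * (sE * x)⁻¹ * (Y * t)⁻¹ := e2
  rw [e3]; exact h3

/-! ### the elements of `AA` -/

theorem tau0_sq : tau 0 * tau 0 = 1 := by apply Equiv.ext; decide +kernel
theorem tau0_ne : tau 0 none ≠ none := by decide +kernel

theorem good_tau {w : List Gen} (hw : w.length % 2 = 0) (chk : chkP (nw w false) (rows 0) = true) : Good π3 (wK w hw) := by
  have hr : ∀ p, rho (word w) (lab p) = lab (tau 0 p) := fun p => by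
    have h := rho_of_chkP chk (lab p, lab (tau 0 p)) (mem_rows 0 (by norm_num) p)
    exact h
  have hc : ∀ p, ((wK w hw : Spor.Fi24') : Fi24) * d p * ((wK w hw : Spor.Fi24') : Fi24)⁻¹ = d (tau 0 p) := fun p => conj_d (hr p)
  have hi : (ind ⟨wK w hw, mem_normalizer_of hc⟩).1 = tau 0 := ind_eq (n := ⟨wK w hw, mem_normalizer_of hc⟩) hc
  refine good_N (h := ⟨wK w hw, mem_normalizer_of hc⟩) (n := 1) ?_ ?_
  · have h2 : ind ⟨wK w hw, mem_normalizer_of hc⟩ * ind ⟨wK w hw, mem_normalizer_of hc⟩ = 1 := Subtype.ext (by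
      show (ind ⟨wK w hw, mem_normalizer_of hc⟩).1 * (ind ⟨wK w hw, mem_normalizer_of hc⟩).1 = 1
      rw [hi, tau0_sq])
    rw [show 3 * 2 ^ 1 = 2 * 3 by norm_num, pow_mul, pow_two, h2, one_pow]
  · intro h3
    rw [h3] at hi
    exact tau0_ne (by rw [← hi]; rfl)

theorem chkA : eqB ([.a,.k,.a] ++ W 0 ++ [.a,.k,.a]) [.l,.a] = true := by decide +kernel
theorem chkB : eqB ([.a,.k,.a] ++ (W 0 ++ [.e,.g]) ++ [.a,.k,.a]) [.l,.a,.e,.g] = true := by decide +kernel
theorem chkT : chkP (nw (W 0 ++ [.e,.g]) false) (rows 0) = true := by decide +kernel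

theorem cj_word {u w w' : List Gen} (hw : w.length % 2 = 0) (hw' : w'.length % 2 = 0)
    (h : eqB (u ++ w ++ u.reverse) w' = true) : cj (word u) (wK w hw) = wK w' hw' := by
  apply Subtype.ext
  show word u * word w * (word u)⁻¹ = word w'
  rw [← word_reverse, ← word_append, ← word_append]
  exact eq_of_eqB h

theorem good_la : Good π3 (wK [.l,.a] rfl) := by
  have h := (good_tau (even_W 0 (by norm_num)) Schreier.FiBasic.c0).conj24 (word [.a,.k,.a])
  have e := cj_word (u := [.a,.k,.a]) (w := W 0) (w' := [.l,.a]) (even_W 0 (by norm_num)) rfl chkA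
  rw [← e]; exact h

theorem good_laeg : Good π3 (wK [.l,.a,.e,.g] rfl) := by
  have h := (good_tau (w := W 0 ++ [.e,.g]) rfl chkT).conj24 (word [.a,.k,.a])
  have e := cj_word (u := [.a,.k,.a]) (w := W 0 ++ [.e,.g]) (w' := [.l,.a,.e,.g]) rfl rfl chkB
  rw [← e]; exact h

theorem d0 : d none = word (tw 0) := by rw [← word_tw none, lab_none]
theorem d1 : d (some 0) = word (tw 1) := by rw [← word_tw (some 0), show lab (some 0) = 1 by decide +kernel]
theorem d3 : d (some 2) = word (tw 3) := by rw [← word_tw (some 2), show lab (some 2) = 3 by decide +kernel]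
theorem d8 : d (some 4) = word (tw 8) := by rw [← word_tw (some 4), show lab (some 4) = 8 by decide +kernel]

theorem good_A {a : Spor.Fi24'} (ha : a ∈ AA) : Good π3 a := by
  rcases H827.Coco.cases ha with rfl | ⟨p, q, hpq, h⟩ | ⟨p, q, r, s, h1, h2, h3, h4, h5, h6, h⟩
  · exact one
  · obtain ⟨n, -, e1, e2⟩ := H827.CocoD.exists_even hpq (show (none : GolayPt) ≠ some 0 by decide)
    refine Good.of_conj24 n ?_
    have e : cj n a = wK [.l,.a] rfl := Subtype.ext (by
      show n * (a : Fi24) * n⁻¹ = word [.l,.a]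
      rw [h, show n * (d p * d q) * n⁻¹ = (n * d p * n⁻¹) * (n * d q * n⁻¹) by group, e1, e2, d0, d1, ← word_append]
      rfl)
    rw [e]; exact good_la
  · obtain ⟨n, -, e1, e2, e3, e4⟩ := R08.TetBig.quad R08.TetBigInst.hyp (isTet h1 h2 h3 h4 h5 h6)
      (isTet (p := none) (q := some 0) (r := some 2) (s := some 4) (by decide) (by decide) (by decide) (by decide) (by decide)
        (by decide))
    refine Good.of_conj24 n ?_
    have e : cj n a = wK [.l,.a,.e,.g] rfl := Subtype.ext (by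
      show n * (a : Fi24) * n⁻¹ = word [.l,.a,.e,.g]
      rw [h, show n * (d p * d q * d r * d s) * n⁻¹ = (n * d p * n⁻¹) * (n * d q * n⁻¹) * (n * d r * n⁻¹) * (n * d s * n⁻¹) by
        group, e1, e2, e3, e4, d0, d1, d3, d8, ← word_append, ← word_append, ← word_append]
      rfl)
    rw [e]; exact good_laeg

/-! ### the results -/

/-- **(R2): all lifts of the 2-elements are commutators** -/
theorem two {g : Spor.Fi24'} {n : ℕ} (hg : g ^ 2 ^ n = 1) : Good π3 g := by
  obtain ⟨h, c, rfl, h2⟩ := ext.into hg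
  refine Good.conj ?_ hs3 c
  by_cases h1 : ind h = 1
  · exact good_A ((ind_ker h).1 h1)
  · exact good_N (n := n) (by rw [mul_comm, pow_mul, h2, one_pow]) h1

/-- **(R2b), modulo the containment in `N(AA)`** -/
theorem good_into {s t g : Spor.Fi24'} {n : ℕ} (hs : s ^ 3 = 1) (ht : t ^ 2 ^ n = 1) (hc : Commute s t)
    (hg : g * (s * t) * g⁻¹ ∈ normalizer (AA : Set Spor.Fi24')) : Good π3 (s * t) := by
  refine Good.of_conj hs3 g ?_
  have h6 : (s * t) ^ (3 * 2 ^ n) = 1 := by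
    rw [hc.mul_pow, pow_mul, hs, one_pow, mul_comm 3, pow_mul, ht, one_pow, one_mul]
  have h7 : (g * (s * t) * g⁻¹) ^ (3 * 2 ^ n) = 1 := by rw [conj_pow, h6]; group
  by_cases h1 : ind ⟨_, hg⟩ = 1
  · exact good_A ((ind_ker ⟨_, hg⟩).1 h1)
  · refine good_N (h := ⟨_, hg⟩) (n := n) ?_ h1
    rw [← map_pow]
    have h8 : (⟨_, hg⟩ : ↥(normalizer (AA : Set Spor.Fi24'))) ^ (3 * 2 ^ n) = 1 := Subtype.ext h7
    rw [h8, map_one]

end Cfsg.Agent.H265.TF
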