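import Cfsg.Agent.H265.TF.EData
import Cfsg.Agent.R08.TetBigInst

/-!
# `3.Fi24'`: all lifts of the elements of `2^11 . M24` of order `2 ^ n` or `3 * 2 ^ n` (helper265, for S2491, S2492)

* `tri_sv` : the lifts of `sE * v`, `v ∈ AA`, are fused;
* `good_N` : `h ∈ N(AA)` with `(ind h) ^ (3 * 2 ^ n) = 1`: all lifts are commutators;
* `two` : **(R2)** all 2-elements of `Fi24'`; `good_into` : **(R2b)** modulo the containment in `N(AA)`.
-/

set_option autoImplicit false
set_option maxRecDepth 100000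
set_option Elab.async false

namespace Cfsg.Agent.H265.TF

open Cfsg Subgroup Cfsg.Agent.H51.Mult Cfsg.Agent.H777.Ore
open Cfsg.Spor.Fi24 (Gen)
open Cfsg.Agent.H52.ThreeFi24 Cfsg.Agent.H52.ThreeFi24Chk Cfsg.Agent.R08.TThree
open Cfsg.Agent.Fischer.Fi24RepDef Cfsg.Agent.Fischer.Fi24Rep Cfsg.Agent.Lib.PermNet Cfsg.Agent.Lib.PermNetPt
open Cfsg.Agent.Fischer.Fi24Spider (word_append word_cons word_nil gword)
open Cfsg.Agent.H827.CocoD (word_mem word_reverse d dword conj_d e)
open Cfsg.Agent.H827.Coco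
open Cfsg.Agent.LThreeFi24.FiveConj (eqB eq_of_eqB)
open Cfsg.Spor (Fi24)
open Cfsg.Agent.Schreier.FiBasic
open Cfsg.Agent.SporadicStructure.M24El Cfsg.Agent.SporadicA.GolayBase Cfsg.Agent.SporadicA.GolayPerm
open Cfsg.Agent.H64.QF.M24Cert (S8 ok_S8 S8_cube m24_cert8)
open Cfsg.Agent.H854.Ore (MExt)

noncomputable def sE : Spor.Fi24' := wK sw rfl
noncomputable def cE : Spor.Fi24' := wK cw rfl

theorem tri_E : Tri π3 cE sE := tri_of_chk rfl rfl chk_comm chk_ne

theorem cube_sE : sE ^ 3 = 1 := cube_wK rfl chk_cube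

theorem sE_inv : sE⁻¹ = sE * sE := by
  have h := cube_sE
  rw [pow_succ, pow_two] at h
  exact inv_eq_of_mul_eq_one_left h

/-- labels -/
def permL (n : ℕ) : ℕ := ([2, 0, 1, 4, 8, 10, 9, 11, 3, 23, 21, 22, 15, 20, 13, 19, 18, 16, 17, 12, 14, 5, 7, 6] : List ℕ).getD n 0

theorem lab_S8 (p : GolayPt) : lab ((S8 : Equiv.Perm GolayPt) p) = permL (lab p) := by
  have h1 : (S8 : Equiv.Perm GolayPt) p = pt (papp 48658384971103958334793714344528919 (idx p)) := el_smul_pt ok_S8 p
  rw [h1]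
  revert p
  decide +kernel

theorem row_mem : ∀ n < 24, (n, permL n) ∈ rowsE := by decide

theorem rho_sw (p : GolayPt) : rho (word sw) (lab p) = lab ((S8 : Equiv.Perm GolayPt) p) := by
  rw [lab_S8]
  have h := rho_of_chkP chk_rows (lab p, permL (lab p)) (row_mem _ (lab_lt p))
  exact h

theorem conj_sw (p : GolayPt) : (sE : Fi24) * d p * (sE : Fi24)⁻¹ = d ((S8 : Equiv.Perm GolayPt) p) :=
  conj_d (rho_sw p)

theorem sE_mem : sE ∈ normalizer (AA : Set Spor.Fi24') := mem_normalizer_of conj_sw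

noncomputable def sN : ↥(normalizer (AA : Set Spor.Fi24')) := ⟨sE, sE_mem⟩

theorem ind_sN : ind sN = S8 := Subtype.ext (ind_eq conj_sw)

theorem ext : MExt AA (normalizer (AA : Set Spor.Fi24')) ind := H854.Ore.Fi24.ext

theorem commAA {a b : Spor.Fi24'} (ha : a ∈ AA) (hb : b ∈ AA) : a * b = b * a := ext.comm ha hb

/-! ### the norm -/

/-- the norm -/
noncomputable def Nm (v : Spor.Fi24') : Spor.Fi24' := v * (sE * v * sE⁻¹) * (sE⁻¹ * v * sE)

theorem cj1 {v : Spor.Fi24'} (hv : v ∈ AA) : sE * v * sE⁻¹ ∈ AA := ext.nconj sN hv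

theorem cj2 {v : Spor.Fi24'} (hv : v ∈ AA) : sE⁻¹ * v * sE ∈ AA := by
  have h := ext.nconj sN⁻¹ hv
  have e1 : ((sN⁻¹ : ↥(normalizer (AA : Set Spor.Fi24'))) : Spor.Fi24') = sE⁻¹ := rfl
  rw [e1, inv_inv] at h
  exact h

theorem Nm_mem {v : Spor.Fi24'} (hv : v ∈ AA) : Nm v ∈ AA := mul_mem (mul_mem hv (cj1 hv)) (cj2 hv)

theorem Nm_mul {v w : Spor.Fi24'} (hv : v ∈ AA) (hw : w ∈ AA) : Nm (v * w) = Nm v * Nm w := by
  have c1 := commAA (cj1 hv) hw
  have c2 := commAA (cj2 hv) hw
  have c3 := commAA (cj2 hv) (cj1 hw)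
  unfold Nm
  calc v * w * (sE * (v * w) * sE⁻¹) * (sE⁻¹ * (v * w) * sE)
      = v * (w * (sE * v * sE⁻¹)) * (sE * w * sE⁻¹) * ((sE⁻¹ * v * sE) * (sE⁻¹ * w * sE)) := by group
    _ = v * (sE * v * sE⁻¹) * w * ((sE * w * sE⁻¹) * (sE⁻¹ * v * sE)) * (sE⁻¹ * w * sE) := by rw [← c1]; group
    _ = v * (sE * v * sE⁻¹) * (w * (sE⁻¹ * v * sE)) * (sE * w * sE⁻¹) * (sE⁻¹ * w * sE) := by rw [← c3]; group
    _ = v * (sE * v * sE⁻¹) * (sE⁻¹ * v * sE) * (w * (sE * w * sE⁻¹) * (sE⁻¹ * w * sE)) := by rw [← c2]; group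

theorem Nm_one : Nm 1 = 1 := by unfold Nm; group

theorem permL_cube : ∀ n < 24, permL (permL (permL n)) = n := by decide

theorem lab_S8i (p : GolayPt) : lab ((S8 : Equiv.Perm GolayPt)⁻¹ p) = permL (permL (lab p)) := by
  have h3 : (S8 : Equiv.Perm GolayPt) ^ 3 = 1 := congrArg Subtype.val S8_cube
  have h4 : (S8 : Equiv.Perm GolayPt)⁻¹ = (S8 : Equiv.Perm GolayPt) * (S8 : Equiv.Perm GolayPt) := by
    rw [pow_succ, pow_two] at h3
    exact inv_eq_of_mul_eq_one_left h3
  rw [h4, Equiv.Perm.mul_apply, lab_S8, lab_S8]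

theorem conj_swi (p : GolayPt) : (sE : Fi24)⁻¹ * d p * (sE : Fi24) = d ((S8 : Equiv.Perm GolayPt)⁻¹ p) := by
  have h := conj_sw ((S8 : Equiv.Perm GolayPt)⁻¹ p)
  rw [show (S8 : Equiv.Perm GolayPt) ((S8 : Equiv.Perm GolayPt)⁻¹ p) = p from
    (S8 : Equiv.Perm GolayPt).apply_symm_apply p] at h
  rw [← h]; group

/-- the product over the orbit of a label -/
noncomputable def F (n : ℕ) : Fi24 := word (tw n) * word (tw (permL n)) * word (tw (permL (permL n)))

theorem exists_lab : ∀ n < 24, ∃ p, lab p = n := by decide +kernel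

theorem comm_tw {a b : ℕ} (ha : a < 24) (hb : b < 24) : word (tw a) * word (tw b) = word (tw b) * word (tw a) := by
  obtain ⟨p, rfl⟩ := exists_lab a ha
  obtain ⟨q, rfl⟩ := exists_lab b hb
  rw [word_tw, word_tw]
  exact H827.CocoD.d_comm p q

theorem permL_lt : ∀ n < 24, permL n < 24 := by decide

theorem F_permL {n : ℕ} (hn : n < 24) : F (permL n) = F n := by
  unfold F
  rw [permL_cube n hn]
  have c1 := comm_tw (permL_lt n hn) hn
  have c2 := comm_tw (permL_lt _ (permL_lt n hn)) hn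
  calc word (tw (permL n)) * word (tw (permL (permL n))) * word (tw n)
      = word (tw (permL n)) * (word (tw (permL (permL n))) * word (tw n)) := by group
    _ = (word (tw (permL n)) * word (tw n)) * word (tw (permL (permL n))) := by rw [c2]; group
    _ = _ := by rw [c1]

theorem Nm_e (p : GolayPt) : ((Nm (e p) : Spor.Fi24') : Fi24) = F (lab p) * F 0 := by
  have h1 : ((Nm (e p) : Spor.Fi24') : Fi24) = d p * d none * ((sE : Fi24) * (d p * d none) * (sE : Fi24)⁻¹) *
      ((sE : Fi24)⁻¹ * (d p * d none) * sE) := rfl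
  have h2 : (sE : Fi24) * (d p * d none) * (sE : Fi24)⁻¹ = d ((S8 : Equiv.Perm GolayPt) p) * d ((S8 : Equiv.Perm GolayPt) none) := by
    rw [← conj_sw, ← conj_sw]; group
  have h3 : (sE : Fi24)⁻¹ * (d p * d none) * (sE : Fi24) = d ((S8 : Equiv.Perm GolayPt)⁻¹ p) * d ((S8 : Equiv.Perm GolayPt)⁻¹ none) := by
    rw [← conj_swi, ← conj_swi]; group
  have hF : ∀ q : GolayPt, F (lab q) = d q * d ((S8 : Equiv.Perm GolayPt) q) * d ((S8 : Equiv.Perm GolayPt)⁻¹ q) := by
    intro q
    rw [← word_tw q, ← word_tw ((S8 : Equiv.Perm GolayPt) q), ← word_tw ((S8 : Equiv.Perm GolayPt)⁻¹ q), lab_S8, lab_S8i]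
    rfl
  rw [h1, h2, h3, ← lab_none, hF p, hF none]
  have c := fun q r => H827.CocoD.d_comm q r
  generalize (S8 : Equiv.Perm GolayPt) p = p1
  generalize (S8 : Equiv.Perm GolayPt)⁻¹ p = p2
  generalize (S8 : Equiv.Perm GolayPt) none = n1
  generalize (S8 : Equiv.Perm GolayPt)⁻¹ none = n2
  calc d p * d none * (d p1 * d n1) * (d p2 * d n2) = d p * (d none * d p1) * (d n1 * d p2) * d n2 := by group
    _ = d p * d p1 * (d none * d p2) * d n1 * d n2 := by rw [c none p1, c n1 p2]; group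
    _ = _ := by rw [c none p2]; group

theorem comm_zero : word cw * (F 0 * F 0) = F 0 * F 0 * word cw := by
  have h : F 0 * F 0 = 1 := by
    have hn : (0 : ℕ) < 24 := by norm_num
    have h1 := permL_lt 0 hn
    have h2 := permL_lt _ h1
    have sq : ∀ n < 24, word (tw n) * word (tw n) = 1 := by
      intro n hn
      obtain ⟨p, rfl⟩ := exists_lab n hn
      rw [word_tw]
      exact H827.CocoD.d_sq p
    unfold F
    generalize hA : word (tw 0) = A0
    generalize hB : word (tw (permL 0)) = B0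
    generalize hC : word (tw (permL (permL 0))) = C0
    have c1 : A0 * B0 = B0 * A0 := by rw [← hA, ← hB]; exact comm_tw hn h1
    have c2 : A0 * C0 = C0 * A0 := by rw [← hA, ← hC]; exact comm_tw hn h2
    have c3 : B0 * C0 = C0 * B0 := by rw [← hB, ← hC]; exact comm_tw h1 h2
    have s1 : A0 * A0 = 1 := by rw [← hA]; exact sq _ hn
    have s2 : B0 * B0 = 1 := by rw [← hB]; exact sq _ h1
    have s3 : C0 * C0 = 1 := by rw [← hC]; exact sq _ h2
    calc A0 * B0 * C0 * (A0 * B0 * C0) = A0 * B0 * (C0 * A0) * B0 * C0 := by group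
      _ = A0 * (B0 * A0) * (C0 * B0) * C0 := by rw [← c2]; group
      _ = (A0 * A0) * (B0 * B0) * (C0 * C0) := by rw [← c1, ← c3]; group
      _ = 1 := by rw [s1, s2, s3]; group
  rw [h, mul_one, one_mul]

theorem F_ow (a : ℕ) : F a * F 0 = word (ow a (permL a) (permL (permL a))) := by
  unfold F ow
  rw [word_append, word_append, word_append, word_append, word_append]
  rfl

theorem comm_F : ∀ n < 24, word cw * (F n * F 0) = F n * F 0 * word cw := by
  have key : ∀ a < 24, word cw * (F a * F 0) = F a * F 0 * word cw →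
      word cw * (F (permL a) * F 0) = F (permL a) * F 0 * word cw := by
    intro a ha h
    rw [F_permL ha]; exact h
  have ofchk : ∀ a, eqB (cw ++ ow a (permL a) (permL (permL a))) (ow a (permL a) (permL (permL a)) ++ cw) = true →
      word cw * (F a * F 0) = F a * F 0 * word cw := by
    intro a h
    have h1 := eq_of_eqB h
    rw [word_append, word_append] at h1
    rw [F_ow]; exact h1
  have k0 : word cw * (F 0 * F 0) = F 0 * F 0 * word cw := comm_zero
  have k2 := key 0 (by norm_num) k0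
  have k1 := key 2 (by norm_num) k2
  have k3 := ofchk 3 chk_o0
  have k4 := key 3 (by norm_num) k3
  have k8 := key 4 (by norm_num) k4
  have k5 := ofchk 5 chk_o1
  have k10 := key 5 (by norm_num) k5
  have k21 := key 10 (by norm_num) k10
  have k6 := ofchk 6 chk_o2
  have k9 := key 6 (by norm_num) k6
  have k23 := key 9 (by norm_num) k9
  have k7 := ofchk 7 chk_o3
  have k11 := key 7 (by norm_num) k7
  have k22 := key 11 (by norm_num) k11
  have k12 := ofchk 12 chk_o4
  have k15 := key 12 (by norm_num) k12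
  have k19 := key 15 (by norm_num) k15
  have k13 := ofchk 13 chk_o5
  have k20 := key 13 (by norm_num) k13
  have k14 := key 20 (by norm_num) k20
  have k16 := ofchk 16 chk_o6
  have k18 := key 16 (by norm_num) k16
  have k17 := key 18 (by norm_num) k18
  intro n hn
  interval_cases n
  · exact k0
  · exact k1
  · exact k2
  · exact k3
  · exact k4
  · exact k5
  · exact k6
  · exact k7
  · exact k8
  · exact k9
  · exact k10
  · exact k11
  · exact k12
  · exact k13
  · exact k14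
  · exact k15
  · exact k16
  · exact k17
  · exact k18
  · exact k19
  · exact k20
  · exact k21
  · exact k22
  · exact k23

/-- `cE` commutes with the norms -/
theorem comm_Nm {v : Spor.Fi24'} (hv : v ∈ AA) : Commute cE (Nm v) := by
  have hv' : v ∈ closure (Set.range e) := hv
  induction hv' using closure_induction with
  | mem x hx =>
    obtain ⟨p, rfl⟩ := hx
    apply Subtype.ext
    show word cw * ((Nm (e p) : Spor.Fi24') : Fi24) = ((Nm (e p) : Spor.Fi24') : Fi24) * word cw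
    rw [Nm_e]
    exact comm_F _ (lab_lt p)
  | one => rw [Nm_one]; exact Commute.one_right _
  | mul x y hx hy ihx ihy =>
    have hx' : x ∈ AA := hx
    have hy' : y ∈ AA := hy
    rw [Nm_mul hx' hy']
    exact (ihx hx').mul_right (ihy hy')
  | inv x hx ih =>
    have hx' : x ∈ AA := hx
    have h1 : x⁻¹ = x := inv_eq_of_mul_eq_one_left (ext.sq x hx')
    rw [h1]; exact ih hx'

/-- **the lifts of `sE * v` are fused** -/
theorem tri_sv {v : Spor.Fi24'} (hv : v ∈ AA) : ∃ c, Tri π3 c (sE * v) := by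
  have h1 : (Nm v) ^ 2 = 1 := by rw [pow_two]; exact ext.sq _ (Nm_mem hv)
  have h2 := tri_E.mul_right hs3 hc3 card_ker_L3 (comm_Nm hv) h1 (by norm_num)
  -- conjugate by `a⁻¹`, `a = s⁻¹ v s`
  set a := sE⁻¹ * v * sE with ha
  have haA : a ∈ AA := cj2 hv
  refine ⟨a⁻¹ * cE * a, ?_⟩
  have h3 := h2.conj hs3 a⁻¹
  rw [inv_inv] at h3
  have h4 : a⁻¹ * (sE * Nm v) * a = sE * v := by
    have i1 : a⁻¹ = a := inv_eq_of_mul_eq_one_left (ext.sq a haA)
    have e0 : sE * v = (sE * v * sE⁻¹) * sE := by group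
    have e1 : sE * (sE * v * sE⁻¹) = a * sE := by
      have h7 : sE * sE * sE = 1 := by rw [← pow_two, ← pow_succ]; exact cube_sE
      rw [ha]
      calc sE * (sE * v * sE⁻¹) = sE⁻¹ * (sE * sE * sE) * v * (sE * sE * sE)⁻¹ * sE * sE := by group
        _ = sE⁻¹ * v * sE * sE := by rw [h7]; group
    have e2 : sE * a = v * sE := by rw [ha]; group
    have c1 := commAA haA (cj1 hv)
    have h8 : sE * Nm v = a * (sE * v) * a⁻¹ := by
      rw [i1]
      unfold Nm
      rw [← ha]
      calc sE * (v * (sE * v * sE⁻¹) * a) = (sE * v) * (sE * v * sE⁻¹) * a := by group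
        _ = (sE * v * sE⁻¹) * (sE * (sE * v * sE⁻¹)) * a := by rw [e0]; group
        _ = ((sE * v * sE⁻¹) * a) * sE * a := by rw [e1]; group
        _ = a * ((sE * v * sE⁻¹) * sE) * a := by rw [← c1]; group
        _ = _ := by rw [← e0]
    rw [h8]; group
  rwa [h4] at h3

end Cfsg.Agent.H265.TF
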