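import Cfsg.Agent.H265.TF.Defs
import Cfsg.Agent.H52.ThreeFi24
import Cfsg.Agent.H827.CocoD
import Cfsg.Agent.LThreeFi24.FiveConj

/-!
# `3.Fi24'`: commuting elements of order 3 with non-commuting lifts (helper265, for S2491, S2492)

* `wK`, `wP`, `wL` : words in `Fi24'`, in the presented triple cover `P3`, in `L3`;
* `tri_of_chk` : `Tri π3` from two kernel checks (commuting on 306936 points, not commuting at a point of the 920808);
* `tri_lk : Tri π3 c0 s0`, `s0 = l k` (class 3A), `c0 = b t` with a transposition `t` of another reflection class of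
  `C(s0)`.
-/

set_option autoImplicit false
set_option maxRecDepth 100000
set_option Elab.async false

namespace Cfsg.Agent.H265.TF

open Cfsg Subgroup Cfsg.Agent.H51.Mult Cfsg.Agent.H777.Ore
open Cfsg.Spor.Fi24 (Gen)
open Cfsg.Agent.H52.ThreeFi24 Cfsg.Agent.H52.ThreeFi24Chk Cfsg.Agent.R08.TThree
open Cfsg.Agent.Fischer.Fi24Rep (gen word)
open Cfsg.Agent.Fischer.Fi24Spider (word_append word_cons word_nil)
open Cfsg.Agent.H827.CocoD (word_mem word_reverse)
open Cfsg.Agent.LThreeFi24.FiveConj (eqB eq_of_eqB)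
open Cfsg.Agent.R08.TVar
open Cfsg.Agent.Fischer.TriDef Cfsg.Agent.Lib.PermNet

/-- the word in the presented triple cover -/
def wP (l : List Gen) : P3 := (l.map y).prod

theorem wP_append (l l' : List Gen) : wP (l ++ l') = wP l * wP l' := by
  unfold wP; rw [List.map_append, List.prod_append]

theorem wP_cons (x : Gen) (l : List Gen) : wP (x :: l) = y x * wP l := by
  unfold wP; rw [List.map_cons, List.prod_cons]

theorem wP_nil : wP [] = 1 := rfl

theorem y_sq (s : Gen) : y s * y s = 1 := rel3_P.sq s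

theorem wP_reverse (l : List Gen) : wP l.reverse = (wP l)⁻¹ := by
  induction l with
  | nil => rw [List.reverse_nil, wP_nil, inv_one]
  | cons x l ih =>
    rw [List.reverse_cons, wP_append, ih, wP_cons, wP_cons, wP_nil, mul_one, mul_inv_rev]
    congr 1
    exact (inv_eq_of_mul_eq_one_left (y_sq x)).symm

theorem q3_wP (l : List Gen) : q3 (wP l) = word l := by
  induction l with
  | nil => rw [wP_nil, map_one, word_nil]
  | cons x l ih => rw [wP_cons, map_mul, ih, word_cons]; congr 1

theorem wP_mem {l : List Gen} (h : l.length % 2 = 0) : wP l ∈ commutator P3 := by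
  induction l using List.twoStepInduction with
  | nil => exact one_mem _
  | singleton x => simp at h
  | cons_cons x z l ih _ =>
    rw [wP_cons, wP_cons, ← mul_assoc]
    refine mul_mem (mul_mem_comm x z) (ih ?_)
    rw [List.length_cons, List.length_cons] at h
    omega

/-- the word in `Fi24'` -/
noncomputable def wK (l : List Gen) (h : l.length % 2 = 0) : Spor.Fi24' := ⟨word l, word_mem h⟩

/-- the word in the triple cover `L3` -/
noncomputable def wL (l : List Gen) (h : l.length % 2 = 0) : L3 := ⟨wP l, wP_mem h⟩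

theorem π3_wL (l : List Gen) (h : l.length % 2 = 0) : π3 (wL l h) = wK l h := Subtype.ext (q3_wP l)

/-- the image of the point `0` under a word -/
theorem im_eq (l : List Gen) : im l = (l.map T.rho).prod 0 := by
  rw [im, ptWord_eq (okT.wok _ _), (okT.wperm_nw _).1]

theorem toW3_wP (l : List Gen) : toW3 rel3_rho (wP l) = (l.map T.rho).prod := by
  rw [wP, map_list_prod, List.map_map]
  have : (toW3 rel3_rho) ∘ y = T.rho := by
    funext s; exact toW3_of rel3_rho s
  rw [this]

/-- a word which moves the point `0` is not trivial in the triple cover -/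
theorem wP_ne {l : List Gen} (h : Nat.beq (im l) 0 = false) : wP l ≠ 1 := by
  intro h1
  rw [im_eq, ← toW3_wP, h1, map_one] at h
  exact absurd h (by decide)

theorem wP_comm_ne {c x : List Gen} (h : Nat.beq (im (c ++ x ++ c.reverse ++ x.reverse)) 0 = false) :
    wP c * wP x ≠ wP x * wP c := by
  intro h1
  apply wP_ne h
  rw [wP_append, wP_append, wP_append, wP_reverse, wP_reverse, h1]
  group

/-- **`Tri π3` from two kernel checks** -/
theorem tri_of_chk {c x : List Gen} (hc : c.length % 2 = 0) (hx : x.length % 2 = 0) (h1 : eqB (c ++ x) (x ++ c) = true)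
    (h2 : Nat.beq (im (c ++ x ++ c.reverse ++ x.reverse)) 0 = false) : Tri π3 (wK c hc) (wK x hx) := by
  refine ⟨Subtype.ext ?_, wL c hc, wL x hx, π3_wL _ _, π3_wL _ _, fun h => wP_comm_ne h2 (congrArg Subtype.val h)⟩
  show word c * word x = word x * word c
  rw [← word_append, ← word_append]
  exact eq_of_eqB h1

theorem card_ker_L3 : Nat.card π3.ker = 3 := by
  have h1 : Nat.card π3.ker ∣ 3 := by
    rw [← card_ker]
    let ι : π3.ker →* q3.ker := MonoidHom.mk' (fun z => ⟨z.1.1, by
      rw [MonoidHom.mem_ker, ← π3_coe, MonoidHom.mem_ker.1 z.2]; rfl⟩) (fun _ _ => rfl)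
    refine Subgroup.card_dvd_of_injective ι ?_
    intro a b hab
    have h2 : (a.1.1 : P3) = b.1.1 := congrArg (fun z : q3.ker => (z : P3)) hab
    exact Subtype.ext (Subtype.ext h2)
  exact Nat.dvd_antisymm h1 card_ker_π3

/-! ### the first pair -/

/-- a transposition commuting with `l` and `k`, in another reflection class of `PΩ8+(3) : S3` than `b` -/
def tpw : List Gen := [.a,.b,.c,.d,.h,.i,.e,.d,.h,.f,.g,.e,.f,.c,.d,.e,.b,.c,.d,.h,.i,.f,.d,.e,.b,.c,.d,.h,.j,.g,.f,.e,.d,
  .c,.b,.a,.b,.c,.d,.e,.f,.g,.j,.h,.d,.c,.b,.e,.d,.f,.i,.h,.d,.c,.b,.e,.d,.c,.f,.e,.g,.f,.h,.d,.e,.i,.h,.d,.c,.b,.a]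

def cw0 : List Gen := .b :: tpw
def sw0 : List Gen := [.l, .k]

theorem chk_comm0 : eqB (cw0 ++ sw0) (sw0 ++ cw0) = true := by decide +kernel
theorem chk_ne0 : Nat.beq (im (cw0 ++ sw0 ++ cw0.reverse ++ sw0.reverse)) 0 = false := by decide +kernel

/-- an element of class `3A` -/
noncomputable def s0 : Spor.Fi24' := wK sw0 rfl

/-- a triality element of `C(s0)`, of class `3A` -/
noncomputable def c0 : Spor.Fi24' := wK cw0 rfl

/-- **(R1)** -/
theorem tri_lk : Tri π3 c0 s0 := tri_of_chk rfl rfl chk_comm0 chk_ne0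

end Cfsg.Agent.H265.TF
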